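import Cfsg.Agent.Lib.Spor.HeldCent.Main
import Cfsg.Agent.Lib.Spor.TranCent.Assemble
import Cfsg.Agent.Lib.Solv.Component

/-!
Groups of Held type: the centraliser of the involution is that of a transvection of the special linear group of
dimension five. Each of the five other possible centralisers has at most sixteen candidates for conjugates of
the involution, and twenty-nine are required.
-/

set_option autoImplicit false
set_option maxRecDepth 100000
set_option linter.unusedSectionVars false

namespace Cfsg.Agent.Spor.HeldType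

open Cfsg
open Cfsg.Agent.Spor.HeldCent

variable {G : Type*} [Group G] [Finite G] {t : G}

/-- the hypothesis of Held type, with the subgroup seen in the whole group -/
structure Data (t : G) (R : Subgroup G) : Prop where
  /-- an involution -/
  ord : orderOf t = 2
  /-- the subgroup commutes with it -/
  le : R ≤ Subgroup.centralizer ({t} : Set G)
  /-- normal -/
  norm : ∀ c, Commute c t → ∀ r ∈ R, c * r * c⁻¹ ∈ R
  /-- of order `2^7` -/
  card : Nat.card R = 2 ^ 7
  /-- the involution is in it -/
  mem : t ∈ R
  /-- with many conjugates of the involution -/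
  count : {x : G | x ∈ R ∧ IsConj t x}.ncard = 29

theorem false_of_many {D : Dat} (h : D.OK) (S : Sys (Subgroup.centralizer ({t} : Set G)) D)
    (hC : Nat.card (Subgroup.centralizer ({t} : Set G)) = 21504) (hev : (S.ev 64 : G) = t)
    {reps conj : List ℕ} {ex : ℕ} {inE : ℕ → Bool} (hlt : ∀ x, inE x = true → x < 128)
    (hcnt : (List.range 128).countP inE ≤ 16) (h64 : inE 64 = true) (hcl : D.okClass reps conj ex inE = true)
    (hco : D.okCount reps ex = true) {R : Subgroup G} (hR : Data t R) : False := by
  classical
  let T := {a : ℕ // a < 128 ∧ inE a = true}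
  haveI : Finite T := Finite.of_injective (fun a : T => (⟨a.1, a.2.1⟩ : Fin 128)) fun a b e =>
    Subtype.ext (congrArg Fin.val e :)
  have hsub : {x : G | x ∈ R ∧ IsConj t x} ⊆ Set.range fun a : T => S.el a.1 := by
    rintro x ⟨hx, hc⟩
    by_cases hxt : x = t
    · exact ⟨⟨64, by norm_num, h64⟩, by show S.el 64 = x; rw [S.el_code h (by norm_num), hev, hxt]⟩
    · obtain ⟨a, -, -, hax, -, -, -, hin, -⟩ := S.conj_inE h hC hev hcl hco hR.ord hc
        (Subgroup.mem_centralizer_singleton_iff.1 (hR.le hx)) hxt
      exact ⟨⟨a, hlt a hin, hin⟩, hax⟩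
  have h1 := Set.ncard_le_ncard hsub (Set.toFinite _)
  rw [hR.count] at h1
  have h2 : (Set.range fun a : T => S.el a.1).ncard ≤ Nat.card T := by
    rw [← Set.image_univ]
    exact (Set.ncard_image_le (Set.toFinite _)).trans (by rw [Set.ncard_univ])
  have h3 : Nat.card T ≤ 16 := by
    show Nat.card {a : ℕ // a < 128 ∧ inE a = true} ≤ 16
    rw [card_sub_countP]
    exact hcnt
  omega

/-- The centraliser is that of the Held group. -/
theorem case_eq {m : Fin 3} {ε : Bool} (S : Sys (Subgroup.centralizer ({t} : Set G)) (dat m ε))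
    (hC : Nat.card (Subgroup.centralizer ({t} : Set G)) = 21504) (hev : (S.ev 64 : G) = t) {R : Subgroup G}
    (hR : Data t R) : m = 0 ∧ ε = false := by
  have hok := kill_ok m ε
  have hpair : ∀ x : ℕ, ((x == 0) || (x == 64)) = true → x < 128 := fun x h => by
    rcases (show x = 0 ∨ x = 64 by simpa using h) with rfl | rfl <;> norm_num
  fin_cases m <;> cases ε
  · exact ⟨rfl, rfl⟩
  · exact (false_of_many hok S hC hev hpair (by decide +kernel) (by decide +kernel) okClass_0b okCount_0b hR).elim
  · exact (false_of_many hok S hC hev (fun x hx => by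
      simp only [inE, Bool.and_eq_true, decide_eq_true_eq] at hx; exact hx.1) (by decide +kernel) (by decide +kernel)
      okClass_1a okCount_1a hR).elim
  · exact (false_of_many hok S hC hev hpair (by decide +kernel) (by decide +kernel) okClass_1b okCount_1b hR).elim
  · exact (false_of_many hok S hC hev (fun x hx => by
      simp only [inE, Bool.and_eq_true, decide_eq_true_eq] at hx; exact hx.1) (by decide +kernel) (by decide +kernel)
      okClass_2a okCount_2a hR).elim
  · exact (false_of_many hok S hC hev hpair (by decide +kernel) (by decide +kernel) okClass_2b okCount_2b hR).elim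

/-- codes for the centraliser -/
theorem exists_frame (ht : orderOf t = 2) (Q : Subgroup (Subgroup.centralizer ({t} : Set G))) [Q.Normal]
    (hF : Cfsg.generalizedFittingSubgroup (Subgroup.centralizer ({t} : Set G)) = Q)
    (hQ : Cfsg.IsExtraspecial 2 Q) (hcard : Nat.card Q = 2 ^ 7)
    (e : (Subgroup.centralizer ({t} : Set G)) ⧸ Q ≃* Matrix.SpecialLinearGroup (Fin 3) (ZMod 2))
    {R : Subgroup G} (hR : Data t R) : Nonempty (TranCent.Fr G t) := by
  have htm : t ∈ Subgroup.centralizer ({t} : Set G) := Subgroup.mem_centralizer_singleton_iff.2 rfl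
  have hot : orderOf (⟨t, htm⟩ : Subgroup.centralizer ({t} : Set G)) = 2 := by
    rw [← Subgroup.orderOf_coe]; exact ht
  have h2c : Subgroup.centralizer (Q : Set (Subgroup.centralizer ({t} : Set G))) ≤ Q := by
    have := Solv.centralizer_gfit_le (G := Subgroup.centralizer ({t} : Set G))
    rwa [hF] at this
  obtain ⟨m, ε, S, hS⟩ := exists_sys Q ⟨t, htm⟩ hot
    (fun x => Subtype.ext (Subgroup.mem_centralizer_singleton_iff.1 x.2)) hQ hcard h2c e
  have hC := card_of_shape Q hcard e
  obtain ⟨rfl, rfl⟩ := case_eq S hC (congrArg Subtype.val hS) hR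
  obtain ⟨S'⟩ := exists_sys_model TranCent.sSL rfl
  obtain ⟨ec⟩ := S.iso (dat_ok 0 false) S' hC
    (Cfsg.Agent.Spor.card_tv_centralizer (s := TranCent.sSL) rfl)
  exact TranCent.exists_frame _ rfl ht ec

end Cfsg.Agent.Spor.HeldType
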