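import Cfsg.Agent.Lib.Spor.TranCent.Main
import Cfsg.Agent.Lib.Spor.HeldType.Cent

/-!
Groups of Held type with small common part of the two extraspecial subgroups: no exchanging involution of the
plain kind occurs, so the group is that of Held.
-/

set_option autoImplicit false
set_option linter.style.haveILetI false
set_option maxRecDepth 100000

namespace Cfsg.Agent.Spor.HeldType

open Cfsg.Agent.Spor.TranCent

attribute [local irreducible] mulc

variable {G : Type*} [Group G] [Finite G] {z : G}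

/-- the class of the first representative -/
def classOne : List ℕ := [17045569, 17045571, 17109057, 17109059, 17111105, 17111107, 19140673, 19140675, 19142721, 19142723, 19206209, 19206211, 19208257, 19208259]

/-- the class of the second representative -/
def classTwo : List ℕ := [17043525, 17043527, 17043529, 17043531, 17043533, 17043535, 17043537, 17043539, 17043541, 17043543, 17043545, 17043547, 17043549, 17043551]

/-- the class of the given number -/
def classList (i : ℕ) : List ℕ := if i = 1 then classOne else classTwo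

theorem class_ok : ∀ i ∈ [1, 2], (classList i).length = 14 ∧ rp i ∈ classList i ∧ ∀ k ∈ classList i,
    k ∈ els ∧ ∀ j < 5, mulc (mulc (letters.getD j onec) k) (letters.getD j onec) ∈ classList i := by
  decide +kernel

theorem class_conj (F : Fr G z) {i : ℕ} (hi : i ∈ [1, 2]) {c : G} (hc : Commute c z) :
    ∃ k ∈ classList i, F.el k = c * F.rep i * c⁻¹ := by
  obtain ⟨-, hr, hcl⟩ := class_ok i hi
  obtain ⟨a, ha, rfl⟩ := F.el_surj hc
  obtain ⟨w, hw, rfl⟩ := exists_word ha
  rw [F.el_evalw hw]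
  clear ha hc
  induction w with
  | nil => exact ⟨rp i, hr, by simp [← F.rep_eq]⟩
  | cons j w ih =>
    obtain ⟨k, hk, e⟩ := ih fun x hx => hw x (List.mem_cons_of_mem _ hx)
    have hj : j < 5 := hw j List.mem_cons_self
    obtain ⟨hke, hkc⟩ := hcl k hk
    refine ⟨_, hkc j hj, ?_⟩
    rw [F.el_mul (mulc_mem (letters_mem hj) hke) (letters_mem hj), F.el_mul (letters_mem hj) hke, e,
      List.map_cons, List.prod_cons, mul_inv_rev, inv_eq_of_mul_eq_one_right (F.lt_sq hj)]
    simp only [Fr.lt, mul_assoc]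

/-- the common part contains no further conjugate -/
def Small (z : G) (R : Subgroup G) : Prop :=
  ∀ g y : G, g * z * g⁻¹ ∈ R → g * z * g⁻¹ ≠ z → y ∈ R → g⁻¹ * y * g ∈ R → IsConj z y →
    y = z ∨ y = g * z * g⁻¹ ∨ y = z * (g * z * g⁻¹)

/-- a conjugate in the subgroup is in one of two classes -/
theorem conj_class (F : Fr G z) {R : Subgroup G} (hR : Data z R) {y : G} (hy : y ∈ R) (hc : IsConj z y)
    (hne : y ≠ z) : ∃ i ∈ [1, 2], IsConj (F.rep i) z ∧ ∃ c : G, Commute c z ∧ c * y * c⁻¹ = F.rep i := by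
  haveI : Fact (Nat.Prime 2) := ⟨Nat.prime_two⟩
  obtain ⟨g, hg⟩ := isConj_iff.1 hc
  have hy2 : y * y = 1 := by
    rw [← hg, show g * z * g⁻¹ * (g * z * g⁻¹) = g * (z * z) * g⁻¹ by group, F.z_sq, mul_one, mul_inv_cancel]
  have hy1 : y ≠ 1 := fun e => F.z_ne_one (conj_eq_one_iff.1 (hg.trans e))
  have hyz : Commute y z := Subgroup.mem_centralizer_singleton_iff.1 (hR.le hy)
  obtain ⟨i, hi, c, hcz, hci⟩ := F.exists_rep hyz hy2 hy1
  have hrep : IsConj (F.rep i) z := (hc.trans (isConj_iff.2 ⟨c, hci⟩)).symm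
  refine ⟨i, ?_, hrep, c, hcz, hci⟩
  have h0 : i ≠ 0 := by
    rintro rfl
    rw [F.rep_zero] at hci
    refine hne ?_
    calc y = c⁻¹ * (c * y * c⁻¹) * c := by group
      _ = z := by rw [hci, mul_assoc, ← hcz.eq, inv_mul_cancel_left]
  have h3 : i ≠ 3 := fun e => F.not_three_five (Or.inl e) hrep
  have h4 : i < 4 := by
    by_contra h4
    have hm : F.rep i ∈ Subgroup.centralizer ({z} : Set G) :=
      Subgroup.mem_centralizer_singleton_iff.2 (F.rep_comm hi).eq
    refine F.rep_not_pCore hi (by omega) hm ?_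
    set N := R.subgroupOf (Subgroup.centralizer ({z} : Set G))
    haveI : N.Normal := ⟨fun r hr d => hR.norm d (Subgroup.mem_centralizer_singleton_iff.1 d.2) r hr⟩
    have hN : IsPGroup 2 N := IsPGroup.of_card (n := 7) (by
      rw [Nat.card_congr (Subgroup.subgroupOfEquivOfLe hR.le).toEquiv, hR.card])
    refine Cfsg.Agent.Fusion.le_pCore hN ?_
    rw [Subgroup.mem_subgroupOf]
    show F.rep i ∈ R
    rw [← hci]; exact hR.norm c hcz y hy
  simp only [List.mem_cons, List.not_mem_nil, or_false]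
  omega

/-- both classes are fused to the involution and lie in the subgroup -/
theorem rep_fused (F : Fr G z) {R : Subgroup G} (hR : Data z R) {i : ℕ} (hi : i ∈ [1, 2]) :
    IsConj (F.rep i) z ∧ F.rep i ∈ R := by
  classical
  by_contra hno
  have h12 : ∃ j ∈ [1, 2], ∀ k ∈ [1, 2], k ≠ i → k = j := by
    simp only [List.mem_cons, List.not_mem_nil, or_false] at hi ⊢
    rcases hi with rfl | rfl
    · exact ⟨2, Or.inr rfl, fun k hk h => hk.resolve_left h⟩
    · exact ⟨1, Or.inl rfl, fun k hk h => hk.resolve_right h⟩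
  obtain ⟨j, hj, hji⟩ := h12
  have hsub : {x : G | x ∈ R ∧ IsConj z x} ⊆ ↑(insert z ((classList j).toFinset.image F.el)) := by
    rintro y ⟨hy, hc⟩
    simp only [Finset.coe_insert, Finset.coe_image, List.coe_toFinset, Set.mem_insert_iff, Set.mem_image]
    by_cases hyz : y = z
    · exact Or.inl hyz
    obtain ⟨k, hk, hrep, c, hcz, hci⟩ := conj_class F hR hy hc hyz
    have hki : k ≠ i := by
      rintro rfl
      exact hno ⟨hrep, hci ▸ hR.norm c hcz y hy⟩
    obtain rfl := hji k hk hki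
    obtain ⟨a, ha, e⟩ := class_conj F hk hcz.inv_left
    exact Or.inr ⟨a, ha, by rw [e, ← hci]; group⟩
  have h1 := Set.ncard_le_ncard hsub (Finset.finite_toSet _)
  rw [hR.count, Set.ncard_coe_finset] at h1
  have h2 := (Finset.card_insert_le z ((classList j).toFinset.image F.el)).trans
    (Nat.add_le_add_right (Finset.card_image_le.trans (List.toFinset_card_le _)) 1)
  rw [(class_ok j hj).1] at h2
  omega

theorem side_wit :
    ([0, 3, 0, 2, 3, 2, 0, 1, 3] : List ℕ).all (fun j => Nat.blt j 4) = true ∧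
    eqv (evalG letters [0, 3, 0, 2, 3, 2, 0, 1, 3]) 19140673 = true ∧
    eqv (evalG (autImg 1) [0, 3, 0, 2, 3, 2, 0, 1, 3]) 17111107 = true ∧
    19140673 ∈ classOne ∧ 17111107 ∈ classOne ∧ (17111107 : ℕ) ≠ tc ∧ (17111107 : ℕ) ≠ rp 1 ∧
    (17111107 : ℕ) ≠ mulc tc (rp 1) := by decide +kernel

/-- an element of the first class is fused to the involution and in the subgroup -/
theorem class_mem (F : Fr G z) {R : Subgroup G} (hR : Data z R) {k : ℕ} (hk : k ∈ classOne) :
    IsConj z (F.el k) ∧ F.el k ∈ R := by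
  obtain ⟨hf, hm⟩ := rep_fused F hR (i := 1) (by simp)
  have key : ∀ k ∈ classOne, ∃ w ∈ conjWords, eqv (mulc k (evalw w)) (mulc (evalw w) (rp 1)) = true ∧
      w.all (fun j => Nat.blt j 5) = true := by decide +kernel
  obtain ⟨w, -, he, hw⟩ := key k hk
  simp only [List.all_eq_true] at hw
  have hwe : evalw w ∈ els := evalw_mem fun j hj => Nat.le_of_ble_eq_true (hw j hj)
  have hke : k ∈ els := ((class_ok 1 (by simp)).2.2 k hk).1
  have e : F.el k = F.el (evalw w) * F.rep 1 * (F.el (evalw w))⁻¹ := by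
    rw [eq_mul_inv_iff_mul_eq, F.rep_eq, ← F.el_mul hke hwe, ← F.el_mul hwe (rp_spec (by norm_num)).1,
      Nat.eq_of_beq_eq_true he]
  exact ⟨hf.symm.trans (isConj_iff.2 ⟨_, e.symm⟩), e ▸ hR.norm _ (F.el_comm hwe) _ hm⟩

/-- no exchanging involution is of the plain kind -/
theorem no_plain (F : Fr G z) {R : Subgroup G} (hR : Data z R) (hsmall : Small z R) (S : Side F)
    (h : ∀ j < 4, S.g * F.lt j * S.g = F.el ((autImg 1).getD j 0)) : False := by
  obtain ⟨hf, hm⟩ := rep_fused F hR (i := 1) (by simp)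
  obtain ⟨hw, hsrc, hdst, he, he', n1, n2, n3⟩ := side_wit
  simp only [List.all_eq_true] at hw
  have hwl : ∀ j ∈ ([0, 3, 0, 2, 3, 2, 0, 1, 3] : List ℕ), j < 4 := fun j hj => Nat.le_of_ble_eq_true (hw j hj)
  have hmv := S.moveOK (i := 1) (by norm_num) wordOne h
  obtain ⟨-, s2⟩ := F.evalG_lt hmv.src hwl
  obtain ⟨-, d2⟩ := F.evalG_lt hmv.dst hwl
  have hmove : MulAut.conj S.g (F.el 19140673) = F.el 17111107 := by
    rw [← Nat.eq_of_beq_eq_true hsrc, ← Nat.eq_of_beq_eq_true hdst]
    exact (congrArg (MulAut.conj S.g) s2).trans (((map_list_prod _ _).trans (by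
      rw [List.map_map]
      exact congrArg List.prod (List.map_congr_left fun j hj => hmv.conj j (hwl j hj)))).trans d2.symm)
  have gi : S.g⁻¹ = S.g := inv_eq_of_mul_eq_one_right S.sq
  have hgz : S.g * z * S.g⁻¹ = F.rep 1 := by rw [gi]; exact S.conj_z
  have r1 : rp 1 ∈ els := (rp_spec (by norm_num)).1
  have k' : (17111107 : ℕ) ∈ els := ((class_ok 1 (by simp)).2.2 _ he').1
  have hne : F.rep 1 ≠ z := fun e => by
    have h1 : rp 1 ≠ tc := by decide +kernel
    exact h1 (F.el_inj r1 tc_mem (by rw [← F.rep_eq, e, F.el_tc]))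
  rcases hsmall S.g (F.el 17111107) (hgz ▸ hm) (hgz ▸ hne) (class_mem F hR he').2 (by
      rw [← hmove, MulAut.conj_apply, gi, show S.g * (S.g * F.el 19140673 * S.g) * S.g =
        (S.g * S.g) * F.el 19140673 * (S.g * S.g) by group, S.sq, one_mul, mul_one]
      exact (class_mem F hR he).2) (class_mem F hR he').1 with e | e | e
  · exact n1 (F.el_inj k' tc_mem (by rw [e, F.el_tc]))
  · exact n2 (F.el_inj k' r1 (by rw [e, hgz, F.rep_eq]))
  · exact n3 (F.el_inj k' (mulc_mem tc_mem r1) (by rw [e, hgz, F.el_mul tc_mem r1, F.el_tc, F.rep_eq]))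

/-- the exchanging involution is twisted -/
theorem exists_twisted (F : Fr G z) {R : Subgroup G} (hR : Data z R) (hsmall : Small z R) :
    ∃ S : Side F, ∀ j < 4, S.g * F.lt j * S.g = F.el ((autImg 0).getD j 0) := by
  obtain ⟨S, i, hi, h⟩ := F.exists_side_aut (rep_fused F hR (i := 1) (by simp)).1
  rcases (show i = 0 ∨ i = 1 by omega) with rfl | rfl
  · exact ⟨S, h⟩
  · exact (no_plain F hR hsmall S h).elim

theorem dual_seven : isDual (rp 7) 17059913 ∧
    eqv (mulc (letters.getD 3 onec) 17059913) (mulc (rp 6) (letters.getD 3 onec)) = true ∧ 17059913 ∈ els := by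
  unfold isDual
  decide +kernel

/-- the sixth class is fused -/
theorem rep_six (F : Fr G z) {R : Subgroup G} (hR : Data z R) (hsmall : Small z R) : IsConj (F.rep 6) z := by
  obtain ⟨S, h⟩ := exists_twisted F.twist hR hsmall
  obtain ⟨g, -, hg⟩ := S.twist_fused h (i := 7) (by simp)
  obtain ⟨hd, he, hm⟩ := dual_seven
  have e7 : F.twist.rep 7 = F.el 17059913 := by
    show F.el (dualC (rp 7)) = _
    rw [dualC_eq (rp_spec (by norm_num)).1 hm hd]
  have e6 : F.lt 3 * F.twist.rep 7 * (F.lt 3)⁻¹ = F.rep 6 := by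
    rw [e7, mul_inv_eq_iff_eq_mul, F.rep_eq, Fr.lt, ← F.el_mul (letters_mem (by norm_num)) hm,
      ← F.el_mul (rp_spec (by norm_num)).1 (letters_mem (by norm_num)), Nat.eq_of_beq_eq_true he]
  exact (isConj_iff.2 ⟨_, e6⟩ : IsConj (F.twist.rep 7) (F.rep 6)).symm.trans (isConj_iff.2 ⟨g, hg⟩)

/-- the relations of the Mathieu group do not hold -/
theorem not_mathieu (F : Fr G z) (h6 : IsConj (F.rep 6) z) (S : Side F)
    (hR : Sat (F.lm S.g 1) mathieuRel) : False := by
  obtain ⟨f, hsq, hf6, hRf, hgen⟩ := mathieu_target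
  haveI : IsSimpleGroup Cfsg.M24 := Cfsg.Agent.S0365.result
  obtain ⟨φ, -, -, -, hex⟩ := exists_simple_model F S.sq (one_mul 1) (twist_hks F S.g hf6)
    (fun j hj => mem_six (by omega)) hsq (fun j hj => hf6 j (by omega)) (gen_six hgen) hR hRf
    Cfsg.Agent.Spor.card_M24.symm.le (fun hg hs => (mathieu_card hg hs).2)
  have hsh := fusion_shape.2
  have e6 := F.fusion_word S.sq (one_mul 1) (i := 6) (j := 3) (by norm_num) (by norm_num)
    (hex (fusionRel sixMathieu 6 3) (by rw [hsh]; simp))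
  exact F.not_three_five (Or.inl rfl) ((isConj_iff.2 ⟨_, e6⟩ : IsConj (F.rep 6) _).symm.trans h6)

/-- the theorem -/
theorem iso_he (F : Fr G z) {R : Subgroup G} (hR : Data z R) (hsmall : Small z R) : Cfsg.Spor.IsoHe G := by
  obtain ⟨S, h⟩ := exists_twisted F hR hsmall
  rcases S.twist_cases h with hS | hS
  · obtain ⟨f, hsq, h6, hRf, hx, hgen⟩ := he_target_seven
    haveI : IsSimpleGroup Cfsg.Spor.He := HeCert.isHe.1
    have hcard : Nat.card Cfsg.Spor.He = 4030387200 := HeCert.isHe.2
    haveI : Finite Cfsg.Spor.He := Nat.finite_of_card_ne_zero (by rw [hcard]; norm_num)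
    exact S.twist_he h hS hcard.symm.le hsq h6 hRf (gen_six hgen) hx
  · exact (not_mathieu F (rep_six F hR hsmall) S hS).elim

end Cfsg.Agent.Spor.HeldType
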